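import Cfsg.Agent.Lib.DivRing.ThreeSquares
import Mathlib.Algebra.Field.Subfield.Basic
import Mathlib.Tactic

/-!
Two configurations that do not exist in a division ring of characteristic zero.
-/

set_option autoImplicit false

namespace CfsgLib.DivRing

variable {D : Type*} [DivisionRing D]

/-- A commuting set lies in a field inside the double centraliser. -/
def commField (S : Set D) : Subfield D where
  __ := Subring.centralizer (Set.centralizer S)
  inv_mem' _ h := Set.inv_mem_centralizer₀ h

theorem mem_commField_self {S : Set D} {x : D} (hx : x ∈ S) : x ∈ commField S :=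
  fun _ hy => (hy x hx).symm

theorem commute_of_mem_commField {S : Set D} {y : D} (hy : ∀ s ∈ S, s * y = y * s) {x : D}
    (hx : x ∈ commField S) : y * x = x * y :=
  hx y hy

theorem commField_comm {S : Set D} (hS : ∀ a ∈ S, ∀ b ∈ S, a * b = b * a) (x y : commField S) :
    x * y = y * x :=
  Subtype.ext (y.2 x fun s hs => x.2 s (fun t ht => (hS t ht s hs)))

variable [CharZero D]

/-- A central imaginary quadruple: three squares summing to `-1` and two anticommuting square roots
of `-1` cannot coexist. -/
theorem no_three_squares {i j a b c : D} (hi : i * i = -1) (hj : j * j = -1) (hij : i * j = -(j * i))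
    (hai : i * a = a * i) (haj : j * a = a * j) (hbi : i * b = b * i) (hbj : j * b = b * j)
    (hci : i * c = c * i) (hcj : j * c = c * j) (hab : a * b = b * a) (hac : a * c = c * a)
    (hbc : b * c = c * b) (h : a * a + b * b + c * c = -1) : False := by
  have hji : j * i = -(i * j) := by rw [hij, neg_neg]
  have h2 : ∀ {x : D}, x = -x → x = 0 := fun {x} hx => by
    have : (2 : D) * x = 0 := by rw [two_mul]; exact add_eq_zero_iff_eq_neg.2 hx
    exact (mul_eq_zero.1 this).resolve_left two_ne_zero
  have hi0 : i ≠ 0 := fun e => by simp [e] at hi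
  have hj0 : j ≠ 0 := fun e => by simp [e] at hj
  have ai2 : a * i * (a * i) = -(a * a) := by
    rw [mul_assoc, ← mul_assoc i, hai, mul_assoc a i, hi, ← mul_assoc, mul_neg_one]
  have ci2 : c * i * (c * i) = -(c * c) := by
    rw [mul_assoc, ← mul_assoc i, hci, mul_assoc c i, hi, ← mul_assoc, mul_neg_one]
  have cib : c * i * b = b * (c * i) := by rw [mul_assoc, hbi, ← mul_assoc, ← hbc, mul_assoc]
  have aib : a * i * b = b * (a * i) := by rw [mul_assoc, hbi, ← mul_assoc, hab, mul_assoc]
  have aci : a * i * (c * i) = c * i * (a * i) := by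
    rw [mul_assoc, ← mul_assoc i, hci, mul_assoc c i, ← mul_assoc, hac, mul_assoc c a,
      mul_assoc c i, ← mul_assoc i a, hai, mul_assoc a i]
  have jai : j * (a * i) = -(a * i * j) := by
    rw [← mul_assoc, haj, mul_assoc, hji, mul_neg, mul_assoc]
  have jci : j * (c * i) = -(c * i * j) := by
    rw [← mul_assoc, hcj, mul_assoc, hji, mul_neg, mul_assoc]
  set z := 1 + a * i with hz
  set z' := 1 - a * i with hz'
  set v := b + c * i with hv
  set v' := b - c * i with hv'
  have hzz : z * z' = 1 + a * a := by
    rw [hz, hz', add_mul, mul_sub, mul_sub, ai2]; noncomm_ring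
  have hvv : v * v' = b * b + c * c := by
    rw [hv, hv', add_mul, mul_sub, mul_sub, ci2, cib]; noncomm_ring
  have hjz : j * z' = z * j := by
    rw [hz, hz', mul_sub, jai, add_mul]; noncomm_ring
  have hjv : j * v = v' * j := by
    rw [hv, hv', mul_add, jci, sub_mul, hbj]; noncomm_ring
  have hzv : v * z = z * v := by
    rw [hz, hv]
    simp only [mul_add, add_mul, one_mul, mul_one, aib, aci]
    abel
  have h0 : (z + v * j) * (z' - v * j) = 0 := by
    have e : v * j * z' = z * (v * j) := by rw [mul_assoc, hjz, ← mul_assoc, hzv, mul_assoc]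
    have e' : v * j * (v * j) = -(v * v') := by
      rw [mul_assoc, ← mul_assoc j, hjv, mul_assoc v', hj, mul_neg_one, mul_neg]
    rw [add_mul z (v * j), mul_sub z z' (v * j), mul_sub (v * j) z' (v * j), e, e', hzz, hvv]
    calc 1 + a * a - z * (v * j) + (z * (v * j) - -(b * b + c * c))
        = 1 + (a * a + b * b + c * c) := by noncomm_ring
      _ = 0 := by rw [h, add_neg_cancel]
  have iz : i * z = z * i := by rw [hz, mul_add, add_mul, ← mul_assoc, hai]; simp
  have iz' : i * z' = z' * i := by rw [hz', mul_sub, sub_mul, ← mul_assoc, hai]; simp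
  have iv : i * v = v * i := by rw [hv, mul_add, add_mul, ← mul_assoc, hci, hbi]
  have hvj : i * (v * j) = v * j * i := by
    rcases mul_eq_zero.1 h0 with e | e
    · rw [eq_neg_of_add_eq_zero_right e, mul_neg, neg_mul, iz]
    · rw [← sub_eq_zero.1 e, iz']
  have hv0 : v = 0 := by
    rw [← mul_assoc, iv, mul_assoc, mul_assoc v j, hji, mul_neg] at hvj
    exact (mul_eq_zero.1 (h2 hvj)).resolve_right (mul_ne_zero hi0 hj0)
  rw [hv0, zero_mul, add_zero, sub_zero] at h0
  have hai1 : j * (a * i) = a * i * j := by
    rcases mul_eq_zero.1 h0 with e | e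
    · rw [hz] at e; rw [eq_neg_of_add_eq_zero_right e]; simp
    · rw [hz'] at e; rw [← sub_eq_zero.1 e]; simp
  rw [jai] at hai1
  have ha0 : a * i = 0 := (mul_eq_zero.1 (h2 hai1.symm)).resolve_right hj0
  rw [hz, hz', ha0] at h0
  simp at h0

/-- No element of prime order `q ≥ 7` commutes with the quaternions and the square root of five. -/
theorem exclude_prime {q : ℕ} [Fact q.Prime] (hq : 7 ≤ q) {i j x u : D} (hi : i * i = -1)
    (hj : j * j = -1) (hij : i * j = -(j * i)) (hxq : x ^ q = 1) (hx1 : x ≠ 1)
    (hu : u * u = 5) (hxu : x * u = u * x) (hxi : x * i = i * x) (hxj : x * j = j * x)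
    (hui : u * i = i * u) (huj : u * j = j * u) : False := by
  let S : Set D := {x, u}
  have hS : ∀ a ∈ S, ∀ b ∈ S, a * b = b * a := by
    rintro a (rfl | rfl) b (rfl | rfl) <;> first | rfl | exact hxu | exact hxu.symm
  let _ : Field (commField S) :=
    { (inferInstance : DivisionRing (commField S)) with mul_comm := commField_comm hS }
  have hζ : IsPrimitiveRoot (⟨x, mem_commField_self (Or.inl rfl)⟩ : commField S) q := by
    rw [IsPrimitiveRoot.iff_orderOf]
    exact orderOf_eq_prime (Subtype.ext hxq) fun e => hx1 (congrArg Subtype.val e)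
  have hu' : (⟨u, mem_commField_self (Or.inr rfl)⟩ : commField S) ^ 2 = 5 :=
    Subtype.ext (by rw [SubmonoidClass.coe_pow, pow_two]; exact hu)
  obtain ⟨a, b, c, h⟩ := exists_three_squares hq hζ hu'
  have hi' : ∀ s ∈ S, s * i = i * s := by rintro s (rfl | rfl) <;> assumption
  have hj' : ∀ s ∈ S, s * j = j * s := by rintro s (rfl | rfl) <;> assumption
  refine no_three_squares hi hj hij (commute_of_mem_commField hi' a.2)
    (commute_of_mem_commField hj' a.2) (commute_of_mem_commField hi' b.2)
    (commute_of_mem_commField hj' b.2) (commute_of_mem_commField hi' c.2)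
    (commute_of_mem_commField hj' c.2) (congrArg Subtype.val (mul_comm a b))
    (congrArg Subtype.val (mul_comm a c)) (congrArg Subtype.val (mul_comm b c)) ?_
  have := congrArg Subtype.val h
  simpa [pow_two] using this

/-- An outer element of the binary octahedral group is incompatible with a square root of five
negated by it. -/
theorem exclude_outer {i j t u : D} (hi : i * i = -1) (hj : j * j = -1) (hij : i * j = -(j * i))
    (hti : t * i = -(j * t)) (htj : t * j = -(i * t)) (ht : t * t = -1) (hu : u * u = 5)
    (hui : u * i = i * u) (huj : u * j = j * u) (htu : t * u = -(u * t)) : False := by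
  have hji : j * i = -(i * j) := by rw [hij, neg_neg]
  set s := (i - j) * t with hs
  have hsi : s * i = i * s := by
    rw [hs, mul_assoc, hti, mul_neg, ← mul_assoc, ← mul_assoc i, ← neg_mul, sub_mul, mul_sub, hi, hj,
      hij]
    noncomm_ring
  have hsj : s * j = j * s := by
    rw [hs, mul_assoc, htj, mul_neg, ← mul_assoc, ← mul_assoc j, ← neg_mul, sub_mul, mul_sub, hi, hj,
      hji]
    noncomm_ring
  have hs2 : s * s = 2 := by
    have e : t * (i - j) = (i - j) * t := by rw [mul_sub, hti, htj]; noncomm_ring
    rw [hs, mul_assoc, ← mul_assoc t, e, mul_assoc, ht, ← mul_assoc, sub_mul, mul_sub, mul_sub, hi,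
      hj, hji]
    noncomm_ring
    norm_num
  have hsu : s * u = -(u * s) := by
    rw [hs, mul_assoc, htu, mul_neg, ← mul_assoc, sub_mul, ← hui, ← huj, ← mul_sub, mul_assoc]
  set w := u * s with hw
  have hw2 : w * w = -10 := by
    rw [hw, mul_assoc, ← mul_assoc s, hsu, neg_mul, mul_assoc u s s, hs2, mul_neg, ← mul_assoc, hu]
    norm_num
  set a := 3 * i + j with ha
  have ha2 : a * a = -10 := by
    rw [ha, show (3 : D) * i = i + i + i by noncomm_ring]
    simp only [add_mul, mul_add, hi, hj, hji]
    abel_nf
    norm_num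
  have hua : u * a = a * u := by
    rw [ha, show (3 : D) * i = i + i + i by noncomm_ring]
    simp only [add_mul, mul_add, hui, huj]
  have hsa : s * a = a * s := by
    rw [ha, show (3 : D) * i = i + i + i by noncomm_ring]
    simp only [add_mul, mul_add, hsi, hsj]
  have hwa : w * a = a * w := by rw [hw, mul_assoc, hsa, ← mul_assoc, hua, mul_assoc]
  have h0 : (w - a) * (w + a) = 0 := by
    rw [sub_mul, mul_add w w a, mul_add a w a, hw2, ha2, hwa]; abel
  have hcomm : w * u = u * w := by
    rcases mul_eq_zero.1 h0 with h | h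
    · rw [sub_eq_zero.1 h, hua]
    · rw [eq_neg_of_add_eq_zero_left h, neg_mul, mul_neg, hua]
  rw [hw, mul_assoc, hsu, mul_neg] at hcomm
  have hz : u * (u * s) = 0 := by
    have : (2 : D) * (u * (u * s)) = 0 := by
      rw [two_mul]; nth_rewrite 1 [← hcomm]; exact neg_add_cancel _
    exact (mul_eq_zero.1 this).resolve_left two_ne_zero
  rw [← mul_assoc, hu] at hz
  rcases mul_eq_zero.1 hz with h | h
  · norm_num at h
  · rw [h, zero_mul] at hs2; norm_num at hs2

end CfsgLib.DivRing
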