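import Cfsg.Agent.Lib.DivRing.Exclude
import Cfsg.Agent.Lib.Zassenhaus.Transfer
import Cfsg.Agent.Lib.Zassenhaus.Nonsolvable
import Cfsg.Agent.Lib.FrobModule.Fpf
import Mathlib.RingTheory.LittleWedderburn

/-!
A finite nonsolvable subgroup of the multiplicative group of a division ring is `SL(2, 5)`.
-/

set_option autoImplicit false
set_option linter.unusedSectionVars false

namespace CfsgLib.DivRing

open CfsgLib.Zassenhaus

/-- In positive characteristic finite multiplicative groups are commutative. -/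
theorem commute_of_charP {D : Type*} [DivisionRing D] (p : ℕ) [CharP D p] (hp : p.Prime)
    (H : Subgroup Dˣ) [Finite H] (a b : H) : a * b = b * a := by
  have := Fact.mk hp
  let _ : Algebra (ZMod p) D := ZMod.algebra D p
  let F := MonoidAlgebra.lift (ZMod p) D H ((Units.coeHom D).comp H.subtype)
  have : Finite (MonoidAlgebra (ZMod p) H) :=
    Finite.of_equiv (H → ZMod p) (Finsupp.equivFunOnFinite.symm.trans MonoidAlgebra.coeffEquiv.symm)
  have : Finite F.range := Finite.of_surjective F.rangeRestrict fun ⟨_, x, hx⟩ => ⟨x, Subtype.ext hx⟩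
  have hc := (Finite.isDomain_to_isField F.range).mul_comm
  have hmem : ∀ h : H, ((h : Dˣ) : D) ∈ F.range := fun h =>
    ⟨MonoidAlgebra.of (ZMod p) H h, by simp [F]⟩
  exact Subtype.ext (Units.ext (congrArg Subtype.val (hc ⟨_, hmem a⟩ ⟨_, hmem b⟩)))

variable {D : Type*} [DivisionRing D] {H : Subgroup Dˣ}

/-- The value of an element. -/
def val : H →* D := (Units.coeHom D).comp H.subtype

theorem val_injective : Function.Injective (val : H →* D) :=
  Units.val_injective.comp Subtype.val_injective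

theorem val_ne_zero (h : H) : val h ≠ 0 := (h : Dˣ).ne_zero

theorem map_inv_val (h : H) : val h⁻¹ = (val h)⁻¹ :=
  Units.val_inv_eq_inv_val (h : Dˣ)

theorem val_eq_of_sq {h : H} (h2 : h * h = 1) : val h = 1 ∨ val h = -1 :=
  mul_self_eq_one_iff.1 (by rw [← map_mul, h2, map_one])

theorem trace_of_order_three {x : D} (hx : x * x * x = 1 ∨ x * x * x = -1) (h1 : x ≠ 1)
    (h2 : x ≠ -1) : x + x⁻¹ = 1 ∨ x + x⁻¹ = -1 := by
  have hx0 : x ≠ 0 := fun e => by simp [e] at hx
  rcases hx with hx | hx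
  · have e : (x - 1) * (x * x + x + 1) = 0 := by
      calc (x - 1) * (x * x + x + 1) = x * x * x - 1 := by noncomm_ring
        _ = 0 := by rw [hx, sub_self]
    have e' := (mul_eq_zero.1 e).resolve_left (sub_ne_zero.2 h1)
    refine Or.inr (mul_left_cancel₀ hx0 ?_)
    rw [mul_add, mul_inv_cancel₀ hx0, mul_neg_one, ← add_eq_zero_iff_eq_neg]
    rw [← e']; abel
  · have e : (x + 1) * (x * x - x + 1) = 0 := by
      calc (x + 1) * (x * x - x + 1) = x * x * x + 1 := by noncomm_ring
        _ = 0 := by rw [hx, neg_add_cancel]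
    have e' := (mul_eq_zero.1 e).resolve_left fun e => h2 (eq_neg_of_add_eq_zero_left e)
    refine Or.inl (mul_left_cancel₀ hx0 ?_)
    rw [mul_add, mul_inv_cancel₀ hx0, mul_one, ← sub_eq_zero]
    rw [← e']; abel

/-- If `i² = -1` and the trace of `i a` is `0` or `±1`, then `i` commutes with the trace of `a`. -/
theorem commute_trace {i a : D} {r : D} (hi : i * i = -1) (ha : a ≠ 0)
    (hr : a * r = r * a) (h : i * a + (i * a)⁻¹ = r) :
    i * (a + a⁻¹) = (a + a⁻¹) * i := by
  have hi0 : i ≠ 0 := fun e => by simp [e] at hi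
  have hinv : i⁻¹ = -i := inv_eq_of_mul_eq_one_right (by rw [mul_neg, hi, neg_neg])
  rw [mul_inv_rev, hinv, mul_neg, ← sub_eq_add_neg] at h
  have h' : a * i - i * a⁻¹ = r := by
    calc a * i - i * a⁻¹ = a * (i * a - a⁻¹ * i) * a⁻¹ := by
          rw [mul_sub, sub_mul, ← mul_assoc, mul_assoc (a * i) a, mul_inv_cancel₀ ha, mul_one,
            ← mul_assoc, mul_inv_cancel₀ ha, one_mul]
      _ = r := by rw [h, hr, mul_assoc, mul_inv_cancel₀ ha, mul_one]
  rw [mul_add, add_mul]
  rw [← sub_eq_zero]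
  calc i * a + i * a⁻¹ - (a * i + a⁻¹ * i) = (i * a - a⁻¹ * i) - (a * i - i * a⁻¹) := by abel
    _ = 0 := by rw [h, h', sub_self]

/-- The quadratic relation of the trace of a fifth root of unity. -/
theorem sq_eq_five {a : D} (ha5 : a ^ 5 = 1) (ha1 : a ≠ 1) :
    (2 * (a + a⁻¹) + 1) * (2 * (a + a⁻¹) + 1) = 5 ∧
      (a + a⁻¹) + ((a * a) + (a * a)⁻¹) = -1 := by
  have hinv : a⁻¹ = a * a * a * a := inv_eq_of_mul_eq_one_right (by rw [← ha5]; simp [pow_succ, mul_assoc])
  have hinv2 : (a * a)⁻¹ = a * a * a := inv_eq_of_mul_eq_one_right (by rw [← ha5]; simp [pow_succ, mul_assoc])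
  have e : (a - 1) * (a * a * a * a + a * a * a + a * a + a + 1) = 0 := by
    calc (a - 1) * (a * a * a * a + a * a * a + a * a + a + 1) = a ^ 5 - 1 := by noncomm_ring
      _ = 0 := by rw [ha5, sub_self]
  have e' := (mul_eq_zero.1 e).resolve_left (sub_ne_zero.2 ha1)
  have h2 : (a + a⁻¹) + ((a * a) + (a * a)⁻¹) = -1 := by
    rw [hinv, hinv2, ← add_eq_zero_iff_eq_neg, ← e']; abel
  refine ⟨?_, h2⟩
  have ha0 : a ≠ 0 := fun e => by simp [e] at ha5
  have hsq : (a + a⁻¹) * (a + a⁻¹) = a * a + (a * a)⁻¹ + 2 := by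
    rw [mul_inv_rev, add_mul, mul_add, mul_add, mul_inv_cancel₀ ha0, inv_mul_cancel₀ ha0]
    abel_nf
    norm_num
    abel_nf
  have hsq' : (a + a⁻¹) * (a + a⁻¹) + (a + a⁻¹) = 1 := by
    rw [hsq]
    calc a * a + (a * a)⁻¹ + 2 + (a + a⁻¹) = (a + a⁻¹ + (a * a + (a * a)⁻¹)) + 2 := by abel
      _ = 1 := by rw [h2]; norm_num
  calc (2 * (a + a⁻¹) + 1) * (2 * (a + a⁻¹) + 1)
      = 4 * ((a + a⁻¹) * (a + a⁻¹) + (a + a⁻¹)) + 1 := by noncomm_ring
    _ = 5 := by rw [hsq']; norm_num

theorem commute_two_mul_add_one {y c : D} (h : y * c = c * y) :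
    (2 * c + 1) * y = y * (2 * c + 1) := by
  rw [two_mul, add_mul, add_mul, mul_add, mul_add, h, one_mul, mul_one]

/-- The permutations used. -/
def pi1 : Equiv.Perm (Fin 5) := Equiv.swap 0 2 * Equiv.swap 1 3

/-- The second double transposition. -/
def pi2 : Equiv.Perm (Fin 5) := Equiv.swap 0 3 * Equiv.swap 1 2

/-- The five cycle. -/
def sig : Equiv.Perm (Fin 5) := Equiv.swap 0 2 * Equiv.swap 2 1 * Equiv.swap 1 3 * Equiv.swap 3 4

theorem perm_facts :
    pi1 ∈ alternatingGroup (Fin 5) ∧ pi2 ∈ alternatingGroup (Fin 5) ∧ sig ∈ alternatingGroup (Fin 5) ∧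
    pi1 * pi1 = 1 ∧ pi2 * pi2 = 1 ∧ (pi1 * pi2) * (pi1 * pi2) = 1 ∧ pi1 ≠ 1 ∧ pi2 ≠ 1 ∧
    pi1 * pi2 ≠ 1 ∧ sig ≠ 1 ∧ sig ^ 5 = 1 ∧ (pi1 * sig) * (pi1 * sig) * (pi1 * sig) = 1 ∧
    pi1 * sig ≠ 1 ∧ (pi2 * sig) * (pi2 * sig) = 1 ∧ pi2 * sig ≠ 1 ∧
    Equiv.swap (0 : Fin 5) 1 * pi1 * (Equiv.swap (0 : Fin 5) 1)⁻¹ = pi2 ∧
    (pi1 * sig * sig * pi2 * Equiv.swap (0 : Fin 5) 1) * sig *
      (pi1 * sig * sig * pi2 * Equiv.swap (0 : Fin 5) 1)⁻¹ = sig * sig := by
  simp only [Equiv.Perm.mem_alternatingGroup]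
  decide +kernel

section Main

variable [CharZero D] [Finite H] {E M : Subgroup H}

theorem val_eq_of_mem_center (e : E ≃* Matrix.SpecialLinearGroup (Fin 2) (ZMod 5)) {z : H} (hz : z ∈ E)
    (hzC : z ∈ Subgroup.centralizer (E : Set H)) : val z = 1 ∨ val z = -1 := by
  have h2 := sq_eq_one_of_central e (x := ⟨z, hz⟩)
    (Subgroup.mem_center_iff.2 fun w => Subtype.ext (Subgroup.mem_centralizer_iff.1 hzC w w.2))
  refine val_eq_of_sq ?_
  rw [← pow_two]
  exact congrArg Subtype.val h2

/-- The data found inside `E`. -/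
structure Frame (f : H →* Equiv.Perm (Fin 5)) (E : Subgroup H) (i j a : H) : Prop where
  iE : i ∈ E
  jE : j ∈ E
  aE : a ∈ E
  fi : f i = pi1
  fj : f j = pi2
  fa : f a = sig
  i2 : val i * val i = -1
  j2 : val j * val j = -1
  ij : val i * val j = -(val j * val i)
  ia : val i * (val a + (val a)⁻¹) = (val a + (val a)⁻¹) * val i
  ja : val j * (val a + (val a)⁻¹) = (val a + (val a)⁻¹) * val j
  a5 : val a ^ 5 = 1
  a1 : val a ≠ 1

theorem exists_lift (D' : NSData H E M) {f : H →* Equiv.Perm (Fin 5)}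
    (hker : f.ker = Subgroup.centralizer (E : Set H)) (hrange : alternatingGroup (Fin 5) ≤ f.range)
    {σ : Equiv.Perm (Fin 5)} (hσ : σ ∈ alternatingGroup (Fin 5)) : ∃ h ∈ E, f h = σ := by
  obtain ⟨e⟩ := D'.equiv
  have := D'.normalE
  set E' := E.map f
  have hperf : ⁅E', E'⁆ = E' := by rw [← Subgroup.map_commutator, D'.perfect]
  have hle : E' ≤ alternatingGroup (Fin 5) := by
    rw [← hperf, Subgroup.commutator_le]
    intro x _ y _
    rw [Equiv.Perm.mem_alternatingGroup, map_commutatorElement, commutatorElement_eq_one_iff_mul_comm]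
    exact mul_comm _ _
  have hne : E'.subgroupOf (alternatingGroup (Fin 5)) ≠ ⊥ := by
    rw [Ne, Subgroup.subgroupOf_eq_bot, disjoint_iff, inf_eq_left.2 hle, Subgroup.map_eq_bot_iff,
      hker]
    intro h
    have : ⁅E, E⁆ = ⊥ := by
      rw [Subgroup.commutator_eq_bot_iff_le_centralizer]; exact h
    rw [D'.perfect] at this
    have h120 : Nat.card E = 120 := (Nat.card_congr e.toEquiv).trans card_SL25
    rw [this, Subgroup.card_bot] at h120
    omega
  have hnorm : (E'.subgroupOf (alternatingGroup (Fin 5))).Normal := by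
    refine ⟨fun x hx g => ?_⟩
    obtain ⟨g', hg'⟩ := hrange g.2
    obtain ⟨h, hh, hhx⟩ := Subgroup.mem_subgroupOf.1 hx
    refine Subgroup.mem_subgroupOf.2 ⟨g' * h * g'⁻¹, D'.normalE.conj_mem h hh g', ?_⟩
    simp [hg', hhx]
  rcases IsSimpleGroup.eq_bot_or_eq_top_of_normal _ hnorm with h | h
  · exact absurd h hne
  · obtain ⟨h', hh', e'⟩ := (Subgroup.subgroupOf_eq_top.1 h hσ : σ ∈ E')
    exact ⟨h', hh', e'⟩

theorem exists_frame (D' : NSData H E M) {f : H →* Equiv.Perm (Fin 5)}
    (hker : f.ker = Subgroup.centralizer (E : Set H)) (hrange : alternatingGroup (Fin 5) ≤ f.range) :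
    ∃ i j a : H, Frame f E i j a := by
  obtain ⟨e⟩ := D'.equiv
  obtain ⟨hp1, hp2, hs, hp11, hp22, hp1212, hp1n, hp2n, hp12n, hsn, hs5, hp1s, hp1sn, hp2s, hp2sn,
    -, -⟩ := perm_facts
  obtain ⟨i, hiE, hi⟩ := exists_lift D' hker hrange hp1
  obtain ⟨j, hjE, hj⟩ := exists_lift D' hker hrange hp2
  obtain ⟨a₀, ha₀E, ha₀⟩ := exists_lift D' hker hrange hs
  have hker' : ∀ h ∈ E, f h = 1 → val h = 1 ∨ val h = -1 := fun h hh h1 =>
    val_eq_of_mem_center e hh (hker ▸ MonoidHom.mem_ker.2 h1)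
  have hcent : ∀ h : H, val h = 1 ∨ val h = -1 → f h = 1 := fun h hh => by
    rw [← MonoidHom.mem_ker, hker, Subgroup.mem_centralizer_iff]
    intro y _
    apply val_injective
    rw [map_mul, map_mul]
    rcases hh with hh | hh <;> rw [hh] <;> simp
  have hhalf : ∀ h ∈ E, f h * f h = 1 → f h ≠ 1 → val h * val h = -1 := fun h hh h2 h1 => by
    rcases hker' (h * h) (E.mul_mem hh hh) (by rw [map_mul, h2]) with h' | h'
    · rw [map_mul] at h'
      exact absurd (hcent h (mul_self_eq_one_iff.1 h')) h1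
    · rwa [map_mul] at h'
  have hi2 := hhalf i hiE (by rw [hi, hp11]) (by rw [hi]; exact hp1n)
  have hj2 := hhalf j hjE (by rw [hj, hp22]) (by rw [hj]; exact hp2n)
  have hk2 := hhalf (i * j) (E.mul_mem hiE hjE) (by rw [map_mul, hi, hj, hp1212])
    (by rw [map_mul, hi, hj]; exact hp12n)
  have hij : val i * val j = -(val j * val i) := by
    rw [map_mul] at hk2
    have h' : val i * (val i * val j * (val i * val j)) * val j = -(val i * val j) := by
      rw [hk2]; simp
    calc val i * val j = -(val i * (val i * val j * (val i * val j)) * val j) := by rw [h', neg_neg]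
      _ = -((val i * val i) * (val j * val i) * (val j * val j)) := by simp only [mul_assoc]
      _ = -(val j * val i) := by rw [hi2, hj2]; simp
  set a := a₀ ^ 6 with hadef
  have haE : a ∈ E := E.pow_mem ha₀E 6
  have ha : f a = sig := by rw [hadef, map_pow, ha₀, pow_succ, hs5, one_mul]
  have ha5 : val a ^ 5 = 1 := by
    rw [hadef, map_pow, ← pow_mul, show 6 * 5 = 5 * 6 from rfl, pow_mul]
    rcases hker' (a₀ ^ 5) (E.pow_mem ha₀E 5) (by rw [map_pow, ha₀, hs5]) with h | h <;>
      rw [map_pow] at h <;> rw [h] <;> norm_num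
  have ha1 : val a ≠ 1 := fun h => by
    have := hcent a (Or.inl h)
    rw [ha] at this
    exact hsn this
  have hia : val i * (val a + (val a)⁻¹) = (val a + (val a)⁻¹) * val i := by
    rcases trace_of_order_three (x := val i * val a) (by
      have := hker' ((i * a) * (i * a) * (i * a))
        (E.mul_mem (E.mul_mem (E.mul_mem hiE haE) (E.mul_mem hiE haE)) (E.mul_mem hiE haE))
        (by simp only [map_mul, hi, ha, hp1s])
      simpa only [map_mul] using this)
      (fun h => hp1sn (by have := hcent (i * a) (Or.inl (by rw [map_mul, h])); rwa [map_mul, hi, ha] at this))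
      (fun h => hp1sn (by have := hcent (i * a) (Or.inr (by rw [map_mul, h])); rwa [map_mul, hi, ha] at this))
      with h | h
    · exact commute_trace hi2 (val_ne_zero a) (by simp) h
    · exact commute_trace hi2 (val_ne_zero a) (by simp) h
  have hja : val j * (val a + (val a)⁻¹) = (val a + (val a)⁻¹) * val j := by
    have h := hhalf (j * a) (E.mul_mem hjE haE) (by rw [map_mul, hj, ha, hp2s])
      (by rw [map_mul, hj, ha]; exact hp2sn)
    rw [map_mul] at h
    refine commute_trace hj2 (val_ne_zero a) (r := 0) (by simp) ?_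
    rw [inv_eq_of_mul_eq_one_right (b := -(val j * val a)) (by rw [mul_neg, h, neg_neg]), add_neg_cancel]
  exact ⟨i, j, a, ⟨hiE, hjE, haE, hi, hj, ha, hi2, hj2, hij, hia, hja, ha5, ha1⟩⟩

theorem M_eq_bot (D' : NSData H E M) {f : H →* Equiv.Perm (Fin 5)}
    (hker : f.ker = Subgroup.centralizer (E : Set H)) (hrange : alternatingGroup (Fin 5) ≤ f.range) :
    M = ⊥ := by
  by_contra hM
  obtain ⟨q, hq, hqM⟩ := Nat.exists_prime_and_dvd (n := Nat.card M)
    fun h => hM (Subgroup.card_eq_one.1 h)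
  have := Fact.mk hq
  have hq7 : 7 ≤ q := by
    have h2 := hq.two_le
    by_contra hlt
    have : q ∣ 30 := by interval_cases q <;> first | (norm_num; done) | (exfalso; revert hq; norm_num)
    exact hq.one_lt.ne' (Nat.eq_one_of_dvd_coprimes D'.coprime hqM this)
  obtain ⟨x, hx⟩ := exists_prime_orderOf_dvd_card' q hqM
  obtain ⟨i, j, a, F⟩ := exists_frame D' hker hrange
  have hcomm : ∀ y ∈ E, val (x : H) * val y = val y * val (x : H) := fun y hy => by
    rw [← map_mul, ← map_mul, Subgroup.mem_centralizer_iff.1 (D'.le x.2) y hy]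
  have hxa : val (x : H) * (val a)⁻¹ = (val a)⁻¹ * val (x : H) :=
    ((Commute.symm (hcomm a F.aE)).inv_left₀).symm
  refine exclude_prime (q := q) hq7 F.i2 F.j2 F.ij (x := val (x : H)) ?_ ?_
    (sq_eq_five F.a5 F.a1).1 ?_ (hcomm i F.iE) (hcomm j F.jE) ?_ ?_
  · rw [← map_pow, ← SubmonoidClass.coe_pow, ← hx, pow_orderOf_eq_one, OneMemClass.coe_one, map_one]
  · intro h
    have h' : x = 1 := Subtype.ext (val_injective (h.trans (map_one _).symm))
    rw [h', orderOf_one] at hx
    exact hq.one_lt.ne hx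
  · simp only [two_mul, mul_add, add_mul, mul_one, one_mul, hcomm a F.aE, hxa]
  · exact commute_two_mul_add_one F.ia
  · exact commute_two_mul_add_one F.ja

theorem range_ne_top (D' : NSData H E M) {f : H →* Equiv.Perm (Fin 5)}
    (hker : f.ker = Subgroup.centralizer (E : Set H)) (hrange : alternatingGroup (Fin 5) ≤ f.range)
    (htop : f.range = ⊤) : False := by
  obtain ⟨e⟩ := D'.equiv
  have := D'.normalE
  obtain ⟨-, -, -, hp11, -, -, -, -, -, -, -, -, -, -, -, ht12, hg⟩ := perm_facts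
  obtain ⟨i, j, a, F⟩ := exists_frame D' hker hrange
  obtain ⟨t, ht⟩ := MonoidHom.range_eq_top.1 htop (Equiv.swap (0 : Fin 5) 1)
  have hM := M_eq_bot D' hker hrange
  have hkerval : ∀ h : H, f h = 1 → val h = 1 ∨ val h = -1 := by
    intro h hh
    have h2 : h ^ 2 = 1 := by
      have hc := pow_card_eq_one' (G := Subgroup.centralizer (E : Set H))
        (x := ⟨h, hker ▸ MonoidHom.mem_ker.2 hh⟩)
      rw [D'.card_centralizer, hM, Subgroup.card_bot, mul_one] at hc
      exact congrArg Subtype.val hc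
    exact val_eq_of_sq (by rw [← pow_two]; exact h2)
  have hcent : ∀ h : H, val h = 1 ∨ val h = -1 → f h = 1 := fun h hh => by
    rw [← MonoidHom.mem_ker, hker, Subgroup.mem_centralizer_iff]
    intro y _
    apply val_injective
    rw [map_mul, map_mul]
    rcases hh with hh | hh <;> rw [hh] <;> simp
  have ht2 : val t * val t = -1 := by
    rcases hkerval (t * t) (by rw [map_mul, ht, Equiv.swap_mul_self]) with h | h
    · rw [map_mul] at h
      have := hcent t (mul_self_eq_one_iff.1 h)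
      rw [ht] at this
      exact absurd this (by decide +kernel)
    · rwa [map_mul] at h
  have ht0 : val t ≠ 0 := val_ne_zero t
  -- the conjugate of `i` by `t`
  set j' := t * i⁻¹ * t⁻¹ with hj'
  have hj'E : j' ∈ E := D'.normalE.conj_mem _ (E.inv_mem F.iE) t
  have hinvi : (val i)⁻¹ = -val i := inv_eq_of_mul_eq_one_right (by rw [mul_neg, F.i2, neg_neg])
  have hinvt : (val t)⁻¹ = -val t := inv_eq_of_mul_eq_one_right (by rw [mul_neg, ht2, neg_neg])
  have hvj' : val j' = val t * val i * val t := by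
    rw [hj', map_mul, map_mul, map_inv_val t, map_inv_val i, hinvi,
      hinvt]
    simp
  have hfj' : f j' = pi2 := by
    rw [hj', map_mul, map_mul, map_inv, map_inv, ht, F.fi, inv_eq_of_mul_eq_one_left hp11, ht12]
  -- `j'` differs from `j` by a sign
  have hjj : val j' = val j ∨ val j' = -val j := by
    rcases hkerval (j⁻¹ * j') (by rw [map_mul, map_inv, F.fj, hfj', inv_mul_cancel]) with h | h <;>
      rw [map_mul, map_inv_val j] at h
    · exact Or.inl ((inv_mul_eq_one₀ (val_ne_zero j)).1 h).symm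
    · refine Or.inr ?_
      rw [inv_mul_eq_iff_eq_mul₀ (val_ne_zero j)] at h
      rw [h, mul_neg_one]
  set J := val j' with hJ
  have hJ2 : J * J = -1 := by rcases hjj with h | h <;> rw [h] <;> simp [F.j2]
  have hiJ : val i * J = -(J * val i) := by rcases hjj with h | h <;> rw [h] <;> simp [F.ij]
  have hJa : J * (val a + (val a)⁻¹) = (val a + (val a)⁻¹) * J := by
    rcases hjj with h | h <;> rw [h] <;> simp [F.ja]
  have hti : val t * val i = -(J * val t) := by
    rw [hvj', mul_assoc _ (val t) (val t), ht2]; simp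
  have htJ : val t * J = -(val i * val t) := by
    rw [hvj', ← mul_assoc, ← mul_assoc, ht2]; simp
  -- the trace is moved by `t`
  set c := val a + (val a)⁻¹ with hc
  set w := i * a * a * j with hwdef
  have hwc : val w * c = c * val w := by
    have hac : val a * c = c * val a := by
      rw [hc, mul_add, add_mul, mul_inv_cancel₀ (val_ne_zero a), inv_mul_cancel₀ (val_ne_zero a)]
    simp only [hwdef, map_mul, mul_assoc]
    rw [F.ja, ← mul_assoc (val a) c, hac, mul_assoc, ← mul_assoc (val a) c, hac, mul_assoc,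
      ← mul_assoc (val i) c, F.ia, mul_assoc]
  set g := w * t
  have hgE : g * a * g⁻¹ ∈ E := D'.normalE.conj_mem _ F.aE g
  have hga : val g * val a * (val g)⁻¹ = val a * val a := by
    have hfg : f ((a * a)⁻¹ * (g * a * g⁻¹)) = 1 := by
      simp only [g, hwdef, map_mul, map_inv, F.fi, F.fj, F.fa, ht]
      rw [inv_mul_eq_one]
      exact hg.symm
    have e5 : val (g * a * g⁻¹) ^ 5 = 1 := by
      rw [← map_pow, conj_pow, map_mul, map_mul, map_pow, F.a5, mul_one, ← map_mul, mul_inv_cancel,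
        map_one]
    rw [map_mul, map_mul, map_inv_val g] at e5
    rcases hkerval _ hfg with h | h <;>
      rw [map_mul, map_inv_val (a * a), map_mul, map_mul (val) (g * a) g⁻¹,
        map_mul (val) g a, map_inv_val g] at h
    · exact ((inv_mul_eq_one₀ (mul_ne_zero (val_ne_zero a) (val_ne_zero a))).1 h).symm
    · exfalso
      rw [inv_mul_eq_iff_eq_mul₀ (mul_ne_zero (val_ne_zero a) (val_ne_zero a))] at h
      rw [h, mul_neg_one, neg_pow, ← pow_two, ← pow_mul, show 2 * 5 = 5 * 2 from rfl, pow_mul,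
        F.a5] at e5
      norm_num at e5
  have hg0 := val_ne_zero g
  have hgc : val g * c * (val g)⁻¹ = -1 - c := by
    have h2 := (sq_eq_five F.a5 F.a1).2
    rw [← hga, mul_inv_rev, mul_inv_rev, inv_inv, ← mul_assoc] at h2
    rw [eq_sub_iff_add_eq, ← h2, hc, mul_add, add_mul]
    abel
  have htc : val t * c = (-1 - c) * val t := by
    have hw0 := val_ne_zero w
    rw [mul_inv_eq_iff_eq_mul₀ hg0, show val g = val w * val t from map_mul _ _ _, mul_assoc] at hgc
    have h1 : (-1 - c) * val w = val w * (-1 - c) := by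
      rw [sub_mul, mul_sub, hwc]; simp
    rw [← mul_assoc (-1 - c), h1, mul_assoc] at hgc
    exact mul_left_cancel₀ hw0 hgc
  refine exclude_outer F.i2 hJ2 hiJ hti htJ ht2 (u := 2 * c + 1) (sq_eq_five F.a5 F.a1).1 ?_ ?_ ?_
  · exact commute_two_mul_add_one F.ia
  · exact commute_two_mul_add_one hJa
  · rw [mul_add, two_mul, mul_add, htc, mul_one]
    noncomm_ring

/-- The structure theorem. -/
theorem nonempty_equiv_SL25 (hH : ¬ Group.IsSolvable H) :
    Nonempty (H ≃* Matrix.SpecialLinearGroup (Fin 2) (ZMod 5)) := by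
  have hne : H ≠ ⊥ := fun h => hH (by subst h; infer_instance)
  obtain ⟨L, _, _, C, hC, ⟨e⟩⟩ := CfsgLib.FrobModule.units_subgroup_complement H hne
  have hG : HasFpf H := (HasFpf.of_isFrobeniusComplement hC).of_injective e.toMonoidHom e.injective
  obtain ⟨E, M, D'⟩ := hG.exists_nsData hH
  obtain ⟨f, hker, hrange⟩ := D'.action
  have hM := M_eq_bot D' hker hrange
  obtain ⟨φ⟩ := D'.equiv
  rcases D'.index_le_two with h | h
  · rw [hM, sup_bot_eq] at h
    exact ⟨(Subgroup.topEquiv.symm.trans (MulEquiv.subgroupCongr (Subgroup.index_eq_one.1 h).symm)).trans φ⟩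
  · exfalso
    refine range_ne_top D' hker hrange ?_
    have hcard : Nat.card f.range * 2 = 240 := by
      rw [← Subgroup.index_ker, hker, ← (by rw [D'.card_centralizer, hM, Subgroup.card_bot] :
        Nat.card (Subgroup.centralizer (E : Set H)) = 2), Subgroup.index_mul_card,
        ← (E ⊔ M).card_mul_index, h, hM, sup_bot_eq, (Nat.card_congr φ.toEquiv).trans card_SL25]
    refine Subgroup.eq_top_of_card_eq _ ?_
    rw [Nat.card_perm, Nat.card_fin]
    exact (Nat.eq_of_mul_eq_mul_right (m := 2) (by norm_num) hcard).trans rfl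

end Main

end CfsgLib.DivRing
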