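import Mathlib.NumberTheory.GaussSum
import Mathlib.NumberTheory.LegendreSymbol.QuadraticChar.Basic
import Mathlib.NumberTheory.LegendreSymbol.Basic
import Mathlib.NumberTheory.LSeries.PrimesInAP
import Mathlib.FieldTheory.IsAlgClosed.AlgebraicClosure
import Mathlib.RingTheory.Polynomial.Cyclotomic.Roots
import Mathlib.Tactic

/-!
`-1` is a sum of three squares in every field of characteristic zero containing a square root of
five and a primitive `q`-th root of unity, `q ≥ 7` prime.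

For a prime `ℓ ≡ 3 [MOD 4]` that is a nonresidue modulo `q`, norms of cyclotomic units show that
`-1` has the shape `x² + ℓ y²`; when moreover `ℓ ≡ ±3 [MOD 10]` and `ℓ ≡ 3, 7 [MOD 20]`,
`2ℓ` has the shape `a² + 5 b²`, so that `ℓ` is a sum of two squares.
-/

set_option autoImplicit false

namespace CfsgLib.DivRing

open Finset

section Units

variable {ℓ : ℕ} [Fact ℓ.Prime]

/-- The nonzero squares modulo `ℓ`. -/
noncomputable def qrSet (ℓ : ℕ) [Fact ℓ.Prime] : Finset (ZMod ℓ) :=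
  {a : ZMod ℓ | quadraticChar (ZMod ℓ) a = 1}

/-- The coefficient of `r` in the product of `1 - [a] z` over the squares `a`. -/
noncomputable def coeffQR {K : Type*} [CommRing K] (z : K) (r : ZMod ℓ) : K :=
  ∑ t ∈ (qrSet ℓ).powerset with ∑ a ∈ t, a = r, (-z) ^ t.card

theorem char_sum {L : Type*} [CommRing L] (φ : AddChar (ZMod ℓ) L) (t : Finset (ZMod ℓ)) :
    φ (∑ a ∈ t, a) = ∏ a ∈ t, φ a := by
  classical
  induction t using Finset.induction_on with
  | empty => simp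
  | insert a t ha ih => rw [sum_insert ha, prod_insert ha, AddChar.map_add_eq_mul, ih]

theorem prod_qrSet {K L : Type*} [CommRing K] [CommRing L] (ι : K →+* L) (φ : AddChar (ZMod ℓ) L)
    (z : K) : ∏ a ∈ qrSet ℓ, (1 - φ a * ι z) = ∑ r : ZMod ℓ, ι (coeffQR z r) * φ r := by
  calc ∏ a ∈ qrSet ℓ, (1 - φ a * ι z)
      = ∏ a ∈ qrSet ℓ, (1 + (-ι z) * φ a) := prod_congr rfl fun a _ => by ring
    _ = ∑ t ∈ (qrSet ℓ).powerset, ∏ a ∈ t, (-ι z) * φ a := prod_one_add _
    _ = ∑ t ∈ (qrSet ℓ).powerset, ι ((-z) ^ t.card) * φ (∑ a ∈ t, a) := by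
        refine sum_congr rfl fun t _ => ?_
        rw [prod_mul_distrib, prod_const, char_sum, map_pow, map_neg]
    _ = _ := by
        rw [← sum_fiberwise (qrSet ℓ).powerset (fun t => ∑ a ∈ t, a)]
        refine sum_congr rfl fun r _ => ?_
        rw [coeffQR, map_sum, sum_mul]
        exact sum_congr rfl fun t ht => by rw [(mem_filter.1 ht).2]

theorem coeffQR_smul {K : Type*} [CommRing K] (z : K) {c : ZMod ℓ} (hc : c ≠ 0) (r : ZMod ℓ) :
    coeffQR z (c ^ 2 * r) = coeffQR z r := by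
  classical
  have key : ∀ (d : ZMod ℓ), d ≠ 0 → ∀ s : ZMod ℓ, ∀ t : Finset (ZMod ℓ),
      t ∈ (qrSet ℓ).powerset.filter (fun t => ∑ a ∈ t, a = s) →
      t.image (d ^ 2 * ·) ∈ (qrSet ℓ).powerset.filter (fun t => ∑ a ∈ t, a = d ^ 2 * s) := by
    intro d hd s t ht
    simp only [mem_filter, mem_powerset] at ht ⊢
    refine ⟨fun a ha => ?_, ?_⟩
    · obtain ⟨b, hb, rfl⟩ := mem_image.1 ha
      have := ht.1 hb
      simp only [qrSet, mem_filter, mem_univ, true_and] at this ⊢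
      rw [map_mul, quadraticChar_sq_one' hd, this, one_mul]
    · rw [sum_image fun a _ b _ h => mul_left_cancel₀ (pow_ne_zero 2 hd) h, ← mul_sum, ht.2]
  have inv : ∀ (d : ZMod ℓ), d ≠ 0 → ∀ t : Finset (ZMod ℓ),
      (t.image (d ^ 2 * ·)).image (d⁻¹ ^ 2 * ·) = t := by
    intro d hd t
    rw [image_image, show ((fun x : ZMod ℓ => d⁻¹ ^ 2 * x) ∘ fun x => d ^ 2 * x) = id from
      funext fun a => by simp [hd]]
    exact image_id
  refine sum_nbij' (fun t => t.image (c⁻¹ ^ 2 * ·)) (fun t => t.image (c ^ 2 * ·))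
    (fun t ht => ?_) (key c hc r) (fun t _ => ?_) (fun t _ => inv c hc t) (fun t _ => ?_)
  · have := key c⁻¹ (inv_ne_zero hc) _ t ht
    rwa [← mul_assoc, ← mul_pow, inv_mul_cancel₀ hc, one_pow, one_mul] at this
  · simpa using inv c⁻¹ (inv_ne_zero hc) t
  · rw [card_image_of_injective _ fun a b h => mul_left_cancel₀ (pow_ne_zero 2 (inv_ne_zero hc)) h]

theorem ringChar_ne_two (h4 : ℓ % 4 = 3) : ringChar (ZMod ℓ) ≠ 2 := by
  rw [ZMod.ringChar_zmod_n]
  omega

theorem quadraticChar_neg (h4 : ℓ % 4 = 3) : quadraticChar (ZMod ℓ) (-1) = -1 :=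
  quadraticChar_neg_one_iff_not_isSquare.2 fun h => ZMod.exists_sq_eq_neg_one_iff.1 h h4

/-- The norm of a cyclotomic unit. -/
theorem exists_unit_norm (h4 : ℓ % 4 = 3) {K : Type*} [Field K] [CharZero K] (z : K) :
    ∃ A B : K, (1 - z) * (A ^ 2 + ℓ * B ^ 2) = 1 - z ^ ℓ := by
  classical
  have hℓ : ℓ.Prime := Fact.out
  set L := AlgebraicClosure K
  set ι : K →+* L := algebraMap K L
  have : CharZero L := charZero_of_injective_ringHom ι.injective
  have : NeZero (ℓ : L) := ⟨Nat.cast_ne_zero.2 hℓ.ne_zero⟩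
  obtain ⟨η, hη⟩ : ∃ η : L, IsPrimitiveRoot η ℓ := by
    obtain ⟨η, hη⟩ := IsAlgClosed.exists_root (Polynomial.cyclotomic ℓ L)
      (Polynomial.degree_cyclotomic_pos ℓ L hℓ.pos).ne'
    exact ⟨η, Polynomial.isRoot_cyclotomic_iff.1 hη⟩
  set ψ := AddChar.zmodChar ℓ hη.pow_eq_one
  have hψ : ψ.IsPrimitive := AddChar.zmodChar_primitive_of_primitive_root ℓ hη
  set χ : MulChar (ZMod ℓ) L := (quadraticChar (ZMod ℓ)).ringHomComp (Int.castRingHom L)
  have hχq : χ.IsQuadratic := (quadraticChar_isQuadratic _).comp _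
  have hχm : χ (-1) = -1 := by
    show ((quadraticChar (ZMod ℓ) (-1) : ℤ) : L) = -1
    rw [quadraticChar_neg h4]; simp
  have hχ1 : χ ≠ 1 := fun h => by
    rw [h, MulChar.one_apply (by simp : IsUnit (-1 : ZMod ℓ))] at hχm
    norm_num at hχm
  have hg : gaussSum χ ψ ^ 2 = -(ℓ : L) := by
    rw [gaussSum_sq hχ1 hχq hψ, hχm, ZMod.card, neg_one_mul]
  have hψ' : gaussSum χ (AddChar.mulShift ψ (-1)) = -gaussSum χ ψ := by
    have := gaussSum_mulShift χ ψ (-1 : (ZMod ℓ)ˣ)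
    rw [Units.val_neg, Units.val_one, hχm] at this
    linear_combination -this
  have hψp : (AddChar.mulShift ψ (-1)).IsPrimitive := fun a ha => by
    rw [AddChar.mulShift_mulShift]
    exact hψ (mul_ne_zero (neg_ne_zero.2 one_ne_zero) ha)
  set F := coeffQR (ℓ := ℓ) z
  set s := (F 1 + F (-1)) / 2 with hs
  set d := (F 1 - F (-1)) / 2 with hd
  have hF : ∀ r : ZMod ℓ, ι (F r) =
      ι s + ι d * χ r + (if r = 0 then ι (F 0 - s) else 0) := by
    intro r
    by_cases hr : r = 0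
    · subst hr
      rw [if_pos rfl, MulChar.map_zero, map_sub]
      ring
    rw [if_neg hr, add_zero]
    rcases quadraticChar_dichotomy hr with h | h
    · obtain ⟨c, rfl⟩ := (quadraticChar_one_iff_isSquare hr).1 h
      have hc : c ≠ 0 := fun e => hr (by rw [e, zero_mul])
      rw [show χ (c * c) = ((quadraticChar (ZMod ℓ) (c * c) : ℤ) : L) from rfl, h, Int.cast_one,
        mul_one, ← map_add, show F (c * c) = F 1 by
          rw [show c * c = c ^ 2 * 1 by ring]; exact coeffQR_smul z hc 1]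
      congr 1
      rw [hs, hd]; ring
    · have h' : quadraticChar (ZMod ℓ) (-r) = 1 := by
        rw [neg_eq_neg_one_mul, map_mul, quadraticChar_neg h4, h]; norm_num
      obtain ⟨c, hc2⟩ := (quadraticChar_one_iff_isSquare (neg_ne_zero.2 hr)).1 h'
      have hc : c ≠ 0 := fun e => hr (by rw [e, zero_mul, neg_eq_zero] at hc2; exact hc2)
      rw [show χ r = ((quadraticChar (ZMod ℓ) r : ℤ) : L) from rfl, h, Int.cast_neg,
        Int.cast_one, mul_neg_one, ← sub_eq_add_neg, ← map_sub, show F r = F (-1) by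
          rw [show r = c ^ 2 * (-1) by linear_combination -hc2]; exact coeffQR_smul z hc (-1)]
      congr 1
      rw [hs, hd]; ring
  have hu : ∀ φ : AddChar (ZMod ℓ) L, φ.IsPrimitive →
      ∏ a ∈ qrSet ℓ, (1 - φ a * ι z) = ι (F 0 - s) + ι d * gaussSum χ φ := by
    intro φ hφ
    rw [prod_qrSet]
    show ∑ r, ι (F r) * φ r = _
    simp only [hF, add_mul, sum_add_distrib, ite_mul, zero_mul, sum_ite_eq', mem_univ, if_true,
      ← mul_sum, mul_assoc]
    have h0 : ∑ r, φ r = 0 := AddChar.sum_eq_zero_of_ne_one fun e => by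
      have := hφ one_ne_zero
      rw [AddChar.mulShift_one] at this
      exact this e
    rw [h0, mul_zero, zero_add, AddChar.map_zero_eq_one, mul_one, add_comm]
    rfl
  refine ⟨F 0 - s, d, ι.injective ?_⟩
  have hsplit : (1 - ι z) * ((∏ a ∈ qrSet ℓ, (1 - ψ a * ι z)) *
      ∏ a ∈ qrSet ℓ, (1 - AddChar.mulShift ψ (-1) a * ι z)) = 1 - ι z ^ ℓ := by
    have hneg : ∏ a ∈ qrSet ℓ, (1 - AddChar.mulShift ψ (-1) a * ι z) =
        ∏ a ∈ (qrSet ℓ).image Neg.neg, (1 - ψ a * ι z) := by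
      rw [prod_image fun a _ b _ h => neg_injective h]
      exact prod_congr rfl fun a _ => by rw [AddChar.mulShift_apply, neg_one_mul]
    have hdisj : Disjoint (qrSet ℓ) ((qrSet ℓ).image Neg.neg) := by
      rw [disjoint_left]
      intro a ha ha'
      obtain ⟨b, hb, rfl⟩ := mem_image.1 ha'
      simp only [qrSet, mem_filter, mem_univ, true_and] at ha hb
      rw [neg_eq_neg_one_mul, map_mul, quadraticChar_neg h4, hb] at ha
      norm_num at ha
    have h0 : (0 : ZMod ℓ) ∉ qrSet ℓ ∪ (qrSet ℓ).image Neg.neg := by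
      simp [qrSet]
    have huniv : insert 0 (qrSet ℓ ∪ (qrSet ℓ).image Neg.neg) = univ := by
      refine eq_univ_of_forall fun a => ?_
      by_cases ha : a = 0
      · exact mem_insert.2 (Or.inl ha)
      refine mem_insert.2 (Or.inr ?_)
      rcases quadraticChar_dichotomy ha with h | h
      · exact mem_union_left _ (mem_filter.2 ⟨mem_univ _, h⟩)
      · refine mem_union_right _ (mem_image.2 ⟨-a, ?_, neg_neg a⟩)
        simp only [qrSet, mem_filter, mem_univ, true_and]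
        rw [neg_eq_neg_one_mul, map_mul, quadraticChar_neg h4, h]; norm_num
    have hall := hη.pow_sub_pow_eq_prod_sub_mul (1 : L) (ι z) hℓ.pos
    rw [one_pow] at hall
    rw [hneg, ← prod_union hdisj, hall]
    have hinj : Function.Injective ψ := fun a b e => by
      rw [AddChar.zmodChar_apply, AddChar.zmodChar_apply] at e
      exact ZMod.val_injective _ (hη.pow_inj (ZMod.val_lt a) (ZMod.val_lt b) e)
    have himg : Polynomial.nthRootsFinset ℓ (1 : L) = univ.image ψ := by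
      refine (Finset.eq_of_subset_of_card_le (fun w hw => ?_) ?_).symm
      · obtain ⟨a, -, rfl⟩ := mem_image.1 hw
        rw [Polynomial.mem_nthRootsFinset hℓ.pos, AddChar.zmodChar_apply, ← pow_mul, mul_comm,
          pow_mul, hη.pow_eq_one, one_pow]
      · rw [card_image_of_injective _ hinj, card_univ, ZMod.card, hη.card_nthRootsFinset]
    rw [himg, prod_image (fun a _ b _ e => hinj e), ← huniv, prod_insert h0,
      AddChar.map_zero_eq_one, one_mul]
  rw [hu ψ hψ, hu _ hψp, hψ'] at hsplit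
  simp only [map_sub, map_mul, map_add, map_pow, map_one, map_natCast] at hsplit ⊢
  linear_combination hsplit + (1 - ι z) * ι d ^ 2 * hg

theorem exists_unit_norm_iter (h4 : ℓ % 4 = 3) {K : Type*} [Field K] [CharZero K] (z : K) (n : ℕ) :
    ∃ A B : K, (1 - z) * (A ^ 2 + ℓ * B ^ 2) = 1 - z ^ (ℓ ^ n) := by
  induction n with
  | zero => exact ⟨1, 0, by simp⟩
  | succ n ih =>
    obtain ⟨A, B, h⟩ := ih
    obtain ⟨C, D, h'⟩ := exists_unit_norm h4 (z ^ (ℓ ^ n))
    refine ⟨A * C - ℓ * B * D, A * D + B * C, ?_⟩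
    rw [pow_succ ℓ n, pow_mul, ← h', ← h]
    ring

/-- `-1 = x² + ℓ y²` in a field with a primitive `q`-th root of unity. -/
theorem exists_neg_one_eq (h4 : ℓ % 4 = 3) {q : ℕ} [Fact q.Prime] (hq : q ≠ 2)
    (hlq : (ℓ : ZMod q) ^ (q / 2) = -1) {K : Type*} [Field K] [CharZero K] {ζ : K}
    (hζ : IsPrimitiveRoot ζ q) : ∃ x y : K, x ^ 2 + ℓ * y ^ 2 = -1 := by
  have hqp : q.Prime := Fact.out
  obtain ⟨A, B, h⟩ := exists_unit_norm_iter h4 ζ (q / 2)
  have h1 : ζ ^ (ℓ ^ (q / 2)) * ζ = 1 := by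
    obtain ⟨k, hk⟩ : q ∣ ℓ ^ (q / 2) + 1 := by
      rw [← ZMod.natCast_eq_zero_iff, Nat.cast_add, Nat.cast_pow, Nat.cast_one, hlq]
      ring
    rw [← pow_succ, hk, pow_mul, hζ.pow_eq_one, one_pow]
  have hz : ζ ≠ 1 := hζ.ne_one hqp.one_lt
  obtain ⟨j, hj⟩ := hqp.odd_of_ne_two hq
  have hsq : (ζ ^ (j + 1)) ^ 2 = ζ := by
    rw [← pow_mul, show (j + 1) * 2 = q + 1 by omega, pow_succ, hζ.pow_eq_one, one_mul]
  refine ⟨ζ ^ (j + 1) * A, ζ ^ (j + 1) * B, ?_⟩
  have key : (1 - ζ) * (ζ * (A ^ 2 + ℓ * B ^ 2)) = (1 - ζ) * (-1) := by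
    linear_combination ζ * h - h1
  rw [← mul_left_cancel₀ (sub_ne_zero.2 hz.symm) key, mul_pow, mul_pow, hsq]
  ring

end Units

theorem zmod5_not_sq : (∀ c : ZMod 5, (2 : ℕ) ≠ c * c) ∧ (∀ c : ZMod 5, (3 : ℕ) ≠ c * c) := by
  decide

theorem zmod5_not_sq' : (∀ c : ZMod 5, c ^ 2 ≠ (2 : ℕ)) ∧ (∀ c : ZMod 5, c ^ 2 ≠ (3 : ℕ)) ∧
    (∀ c : ZMod 5, c ^ 2 = 0 → c = 0) := by
  decide

theorem zmod_small : (∀ u v : ZMod 3, u ^ 2 + 5 * v ^ 2 = 0 → u + v = 0 ∨ u - v = 0) ∧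
    (∀ u v : ZMod 4, u ^ 2 + 5 * v ^ 2 = 0 → 2 * u = 0 ∧ 2 * v = 0) := by
  decide

theorem three_isUnit : IsUnit (3 : ZMod 20) := IsUnit.of_mul_eq_one 7 (by decide)

/-- Twice a prime congruent to `3` or `7` modulo `20` is represented by `x² + 5 y²`. -/
theorem two_mul_eq_sq_add_five_sq {ℓ : ℕ} (hℓ : ℓ.Prime) (h4 : ℓ % 4 = 3)
    (h5 : ℓ % 5 = 2 ∨ ℓ % 5 = 3) : ∃ a b : ℤ, a ^ 2 + 5 * b ^ 2 = 2 * (ℓ : ℤ) := by
  classical
  have := Fact.mk hℓ
  have : Fact (Nat.Prime 5) := ⟨by norm_num⟩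
  have hℓ2 : ℓ ≠ 2 := by omega
  obtain ⟨r, hr⟩ : IsSquare (-5 : ZMod ℓ) := by
    have h5ℓ : ((5 : ℕ) : ZMod ℓ) ≠ 0 := by
      rw [Ne, ZMod.natCast_eq_zero_iff, Nat.prime_dvd_prime_iff_eq hℓ (by norm_num)]
      omega
    have hns : ¬ IsSquare ((5 : ℕ) : ZMod ℓ) := by
      rw [← ZMod.exists_sq_eq_prime_iff_of_mod_four_eq_one (p := 5) (q := ℓ) (by norm_num) hℓ2]
      rintro ⟨c, hc⟩
      have : ((ℓ : ℕ) : ZMod 5) = ((ℓ % 5 : ℕ) : ZMod 5) := (ZMod.natCast_mod ℓ 5).symm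
      rw [this] at hc
      rcases h5 with h | h <;> rw [h] at hc
      · exact zmod5_not_sq.1 c hc
      · exact zmod5_not_sq.2 c hc
    rw [← quadraticChar_one_iff_isSquare (by
      rw [neg_ne_zero]; simpa using h5ℓ)]
    rw [neg_eq_neg_one_mul, map_mul,
      quadraticChar_neg_one_iff_not_isSquare.2 (fun h => ZMod.exists_sq_eq_neg_one_iff.1 h h4),
      quadraticChar_neg_one_iff_not_isSquare.2 (by simpa using hns)]
    norm_num
  -- pigeonhole
  set s := Nat.sqrt ℓ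
  have hs : s * s < ℓ := lt_of_le_of_ne (Nat.sqrt_le ℓ) fun h => by
    rcases hℓ.eq_one_or_self_of_dvd s ⟨s, h.symm⟩ with h1 | h1
    · rw [h1] at h; omega
    · rw [h1] at h
      have := hℓ.one_lt
      nlinarith
  have hcard : (univ : Finset (ZMod ℓ)).card < (range (s + 1) ×ˢ range (s + 1)).card := by
    rw [card_univ, ZMod.card, card_product, card_range]
    exact Nat.lt_succ_sqrt ℓ
  obtain ⟨x, hx, y, hy, hne, hxy⟩ := exists_ne_map_eq_of_card_lt_of_maps_to hcard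
    (f := fun p : ℕ × ℕ => (p.1 : ZMod ℓ) - r * p.2) (fun _ _ => mem_univ _)
  simp only [mem_product, mem_range] at hx hy
  set a : ℤ := (x.1 : ℤ) - y.1 with ha
  set b : ℤ := (x.2 : ℤ) - y.2 with hb
  obtain ⟨k, hk⟩ : (ℓ : ℤ) ∣ a ^ 2 + 5 * b ^ 2 := by
    rw [← ZMod.intCast_zmod_eq_zero_iff_dvd, ha, hb]
    have e : ((x.1 : ZMod ℓ) - y.1) = r * ((x.2 : ZMod ℓ) - y.2) := by linear_combination hxy
    push_cast
    rw [e]
    linear_combination -((x.2 : ZMod ℓ) - y.2) ^ 2 * hr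
  have ha2 : a ^ 2 ≤ (s : ℤ) ^ 2 := sq_le_sq' (by omega) (by omega)
  have hb2 : b ^ 2 ≤ (s : ℤ) ^ 2 := sq_le_sq' (by omega) (by omega)
  have hs' : (s : ℤ) ^ 2 < ℓ := by rw [pow_two]; exact_mod_cast hs
  have hℓ0 : (0 : ℤ) < ℓ := by exact_mod_cast hℓ.pos
  have hab : a ≠ 0 ∨ b ≠ 0 := by
    by_contra h
    push Not at h
    exact hne (Prod.ext (by omega) (by omega))
  have hk0 : 0 < k := by
    have : 0 < a ^ 2 + 5 * b ^ 2 := by rcases hab with h | h <;> positivity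
    rw [hk] at this
    exact pos_of_mul_pos_right this hℓ0.le
  have hk6 : k < 6 := by
    have : (ℓ : ℤ) * k < ℓ * 6 := by linarith
    exact lt_of_mul_lt_mul_left this hℓ0.le
  have m5 : ∀ u v : ℤ, u ^ 2 + 5 * v ^ 2 ≠ ℓ := by
    intro u v h
    have h' := congrArg (fun n : ℤ => (n : ZMod 5)) h
    simp only [Int.cast_add, Int.cast_mul, Int.cast_pow, Int.cast_natCast, Int.cast_ofNat,
      show (5 : ZMod 5) = 0 from rfl, zero_mul, add_zero] at h'
    rw [← ZMod.natCast_mod] at h'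
    generalize (u : ZMod 5) = w at h'
    rcases h5 with h | h <;> rw [h] at h'
    · exact zmod5_not_sq'.1 w h'
    · exact zmod5_not_sq'.2.1 w h'
  interval_cases k
  · exact absurd (by rw [hk]; ring) (m5 a b)
  · exact ⟨a, b, by rw [hk]; ring⟩
  · have h3 := zmod_small.1
    have h' := congrArg (fun n : ℤ => (n : ZMod 3)) hk
    simp only [Int.cast_add, Int.cast_mul, Int.cast_pow, Int.cast_ofNat,
      show (3 : ZMod 3) = 0 from rfl, mul_zero] at h'
    have hu : (3 : ℤ) ∣ a + b ∨ (3 : ℤ) ∣ a - b := by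
      rcases h3 _ _ h' with h | h
      · exact Or.inl ((ZMod.intCast_zmod_eq_zero_iff_dvd _ 3).1 (by simpa using h))
      · exact Or.inr ((ZMod.intCast_zmod_eq_zero_iff_dvd _ 3).1 (by simpa using h))
    rcases hu with ⟨v, hv⟩ | ⟨v, hv⟩
    · refine ⟨2 * b - v, v, ?_⟩
      have e : a = 3 * v - b := by linarith
      rw [e] at hk
      linarith [show 3 * ((2 * b - v) ^ 2 + 5 * v ^ 2) =
        2 * ((3 * v - b) ^ 2 + 5 * b ^ 2) by ring]
    · refine ⟨2 * b + v, v, ?_⟩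
      have e : a = 3 * v + b := by linarith
      rw [e] at hk
      linarith [show 3 * ((2 * b + v) ^ 2 + 5 * v ^ 2) =
        2 * ((3 * v + b) ^ 2 + 5 * b ^ 2) by ring]
  · have h2 := zmod_small.2
    have h' := congrArg (fun n : ℤ => (n : ZMod 4)) hk
    simp only [Int.cast_add, Int.cast_mul, Int.cast_pow, Int.cast_ofNat,
      show (4 : ZMod 4) = 0 from rfl, mul_zero] at h'
    obtain ⟨hu, hv⟩ := h2 _ _ h'
    obtain ⟨u, hu'⟩ := (ZMod.intCast_zmod_eq_zero_iff_dvd (2 * a) 4).1 (by simpa using hu)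
    obtain ⟨v, hv'⟩ := (ZMod.intCast_zmod_eq_zero_iff_dvd (2 * b) 4).1 (by simpa using hv)
    push_cast at hu' hv'
    rw [show a = 2 * u by linarith, show b = 2 * v by linarith] at hk
    exact absurd (by linarith) (m5 u v)
  · have h5' := zmod5_not_sq'.2.2
    have h' := congrArg (fun n : ℤ => (n : ZMod 5)) hk
    simp only [Int.cast_add, Int.cast_mul, Int.cast_pow, Int.cast_ofNat,
      show (5 : ZMod 5) = 0 from rfl, zero_mul, add_zero, mul_zero] at h'
    obtain ⟨u, hu⟩ := (ZMod.intCast_zmod_eq_zero_iff_dvd a 5).1 (h5' _ h')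
    rw [hu] at hk
    push_cast at hk
    exact absurd (by linarith) (m5 b u)

/-- A suitable auxiliary prime. -/
theorem exists_aux_prime {q : ℕ} [Fact q.Prime] (hq : 7 ≤ q) :
    ∃ ℓ : ℕ, ℓ.Prime ∧ ℓ % 4 = 3 ∧ (ℓ % 5 = 2 ∨ ℓ % 5 = 3) ∧ (ℓ : ZMod q) ^ (q / 2) = -1 := by
  have hqp : q.Prime := Fact.out
  obtain ⟨n, hn⟩ := quadraticChar_exists_neg_one' (F := ZMod q)
    (by rw [ZMod.ringChar_zmod_n]; omega)
  have hns : ¬ IsSquare (n : ZMod q) := quadraticChar_neg_one_iff_not_isSquare.1 hn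
  have hcop : Nat.Coprime 20 q := by
    refine Nat.coprime_comm.1 ((hqp.coprime_iff_not_dvd).2 fun h => ?_)
    have := Nat.le_of_dvd (by norm_num) h
    interval_cases q <;> first | omega | (norm_num at hqp)
  have : NeZero (20 * q) := ⟨by have := hqp.pos; omega⟩
  let e := ZMod.chineseRemainder hcop
  have h3 : IsUnit ((3 : ZMod 20), (n : ZMod q)) :=
    Prod.isUnit_iff.2 ⟨three_isUnit, n.isUnit⟩
  obtain ⟨ℓ, hℓgt, hℓ, heq⟩ := Nat.forall_exists_prime_gt_and_eq_mod (q := 20 * q)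
    (h3.map e.symm) 20
  have he : ((ℓ : ZMod 20), (ℓ : ZMod q)) = ((3 : ZMod 20), (n : ZMod q)) := by
    have := congrArg e heq
    rw [map_natCast, RingEquiv.apply_symm_apply] at this
    rw [← this]
    rfl
  simp only [Prod.mk.injEq] at he
  have h20 : ℓ % 20 = 3 := by
    have := congrArg ZMod.val he.1
    rwa [ZMod.val_natCast] at this
  refine ⟨ℓ, hℓ, by omega, Or.inr (by omega), ?_⟩
  rw [he.2]
  rcases ZMod.pow_div_two_eq_neg_one_or_one q (a := (n : ZMod q)) n.ne_zero with h | h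
  · exact absurd ((ZMod.euler_criterion q n.ne_zero).2 h) hns
  · exact h

/-- `-1` is a sum of three squares. -/
theorem exists_three_squares {q : ℕ} [Fact q.Prime] (hq : 7 ≤ q) {K : Type*} [Field K] [CharZero K]
    {ζ u : K} (hζ : IsPrimitiveRoot ζ q) (hu : u ^ 2 = 5) :
    ∃ a b c : K, a ^ 2 + b ^ 2 + c ^ 2 = -1 := by
  obtain ⟨ℓ, hℓ, h4, h5, hlq⟩ := exists_aux_prime hq
  have := Fact.mk hℓ
  obtain ⟨x, y, hxy⟩ := exists_neg_one_eq h4 (by omega) hlq hζ
  obtain ⟨a, b, hab⟩ := two_mul_eq_sq_add_five_sq hℓ h4 h5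
  have hab' : (a : K) ^ 2 + 5 * (b : K) ^ 2 = 2 * (ℓ : K) := by exact_mod_cast congrArg (Int.cast (R := K)) hab
  refine ⟨x, y * ((a + u * b) / 2), y * ((a - u * b) / 2), ?_⟩
  linear_combination hxy + y ^ 2 / 2 * hab' + y ^ 2 * (b : K) ^ 2 / 2 * hu

end CfsgLib.DivRing
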